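import Cfsg.Prelude.Def_CaseTheorems
import Cfsg.Agent.Lib.SylowInter.CharLocal
import Cfsg.Agent.Lib.Involutions.StronglyEmbedded
import Cfsg.Agent.Lib.BenderConsumers23.Simple
import Cfsg.Agent.Lib.OddOrder.FeitThompson

/-!
# Simple groups with one class of maximal 2-local subgroups

If all maximal 2-local subgroups of a non-abelian simple group are conjugate, then they are
strongly embedded; with the Bender-Suzuki theorem the group is `L₂(2^n)`, `Sz(q)` or `U₃(2^n)`.
-/

set_option autoImplicit false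

namespace Cfsg.Agent.Lib.OneTwoLocal

open Cfsg

variable {G : Type*} [Group G] [Finite G]

theorem conj_orderOf (g t : G) : orderOf (g * t * g⁻¹) = orderOf t := by
  rw [← MulAut.conj_apply, MulEquiv.orderOf_eq]

theorem mem_conj_map {H : Subgroup G} {g x : G} :
    x ∈ H.map (MulAut.conj g).toMonoidHom ↔ g⁻¹ * x * g ∈ H := by
  constructor
  · rintro ⟨y, hy, rfl⟩
    simpa [MulAut.conj_apply, mul_assoc] using hy
  · intro h
    exact ⟨_, h, by simp [MulAut.conj_apply, mul_assoc]⟩

/-- A subgroup containing a Sylow normalizer contains every element conjugating that Sylow subgroup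
into it. -/
theorem mem_of_conj_sylow_le (S : Sylow 2 G) {M : Subgroup G}
    (hN : Subgroup.normalizer ((S : Subgroup G) : Set G) ≤ M) {x : G}
    (hx : ∀ s ∈ (S : Subgroup G), x * s * x⁻¹ ∈ M) : x ∈ M := by
  have hSM : (S : Subgroup G) ≤ M := Subgroup.le_normalizer.trans hN
  have hxS : ((x • S : Sylow 2 G) : Subgroup G) ≤ M := by
    rintro y ⟨s, hs, rfl⟩
    simpa [MulAut.smul_def, MulAut.conj_apply] using hx s hs
  haveI : Fact (Nat.Prime 2) := ⟨Nat.prime_two⟩
  obtain ⟨⟨m, hm⟩, hmS⟩ := MulAction.exists_smul_eq M ((x • S).subtype hxS) (S.subtype hSM)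
  rw [Sylow.smul_subtype hxS] at hmS
  have hS : (m * x) • S = S := by
    have := Sylow.subtype_injective hmS
    rwa [Subgroup.smul_def, smul_smul] at this
  have hmx : m * x ∈ M := hN (Sylow.smul_eq_iff_mem_normalizer.1 hS)
  simpa using M.mul_mem (M.inv_mem hm) hmx

/-- With one class of maximal 2-local subgroups, the one containing a Sylow normalizer is strongly
embedded. -/
theorem isStronglyEmbedded_of_conjugate (S : Sylow 2 G) (M : Subgroup G)
    (hS : (S : Subgroup G) ≠ ⊥) (hM : IsMaximalTwoLocal M) (hMtop : M ≠ ⊤)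
    (hN : Subgroup.normalizer ((S : Subgroup G) : Set G) ≤ M)
    (hconj : ∀ M' : Subgroup G, IsMaximalTwoLocal M' →
      ∃ g : G, M' = M.map (MulAut.conj g).toMonoidHom) :
    IsStronglyEmbedded M := by
  haveI : Fact (Nat.Prime 2) := ⟨Nat.prime_two⟩
  have hSM : (S : Subgroup G) ≤ M := Subgroup.le_normalizer.trans hN
  -- a conjugate of `S` inside `M` over a given 2-subgroup of `M`
  have hover : ∀ (E : Subgroup G), IsPGroup 2 E → E ≤ M →
      ∃ m ∈ M, ∀ e ∈ E, m⁻¹ * e * m ∈ (S : Subgroup G) := by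
    intro E hE hEM
    obtain ⟨P, hP⟩ := (hE.of_equiv (Subgroup.subgroupOfEquivOfLe hEM).symm).exists_le_sylow
    obtain ⟨m, hm⟩ := MulAction.exists_smul_eq M P (S.subtype hSM)
    refine ⟨((m⁻¹ : M) : G), (m⁻¹).2, fun e he => ?_⟩
    have h1 : m * (⟨e, hEM he⟩ : M) * m⁻¹ ∈ ((S.subtype hSM : Sylow 2 M) : Subgroup M) := by
      rw [← hm, Sylow.coe_subgroup_smul]
      have h2 : (⟨e, hEM he⟩ : M) ∈ (P : Subgroup M) := hP (Subgroup.mem_subgroupOf.2 he)
      exact Subgroup.smul_mem_pointwise_smul _ (MulAut.conj m) _ h2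
    rw [Sylow.coe_subtype, Subgroup.mem_subgroupOf] at h1
    simpa using h1
  have key : ∀ k : ℕ, ∀ (D : Subgroup G) (g : G), Nat.card G ≤ k + Nat.card D → IsPGroup 2 D →
      D ≠ ⊥ → D ≤ M → D ≤ M.map (MulAut.conj g).toMonoidHom → g ∈ M := by
    intro k
    induction k with
    | zero =>
      intro D g hk hD hD1 hDM _
      have hDtop : D = ⊤ := Subgroup.eq_top_of_le_card D (by simpa using hk)
      exact absurd (top_le_iff.1 (hDtop ▸ hDM)) hMtop
    | succ k ih =>
      intro D g hk hD hD1 hDM hDg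
      -- Sylow subgroups of `M` and of the conjugate over `D`
      obtain ⟨m, hm, hmD⟩ := hover D hD hDM
      set T : Subgroup G := (S : Subgroup G).map (MulAut.conj m).toMonoidHom with hT
      have hDT : D ≤ T := fun e he => mem_conj_map.2 (hmD e he)
      have hTM : T ≤ M := by
        rintro _ ⟨s, hs, rfl⟩
        exact M.mul_mem (M.mul_mem hm (hSM hs)) (M.inv_mem hm)
      obtain ⟨n, hn, hnD⟩ := hover (D.map (MulAut.conj g⁻¹).toMonoidHom) (hD.map _) (by
        rintro _ ⟨d, hd, rfl⟩
        simpa [MulAut.conj_apply] using mem_conj_map.1 (hDg hd))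
      set T' : Subgroup G := (S : Subgroup G).map (MulAut.conj (g * n)).toMonoidHom with hT'
      have hDT' : D ≤ T' := fun e he => mem_conj_map.2 (by
        have := hnD _ ⟨e, he, rfl⟩
        simpa [MulAut.conj_apply, mul_assoc] using this)
      have hT'M : T' ≤ M.map (MulAut.conj g).toMonoidHom := by
        rintro _ ⟨s, hs, rfl⟩
        refine mem_conj_map.2 ?_
        simpa [MulAut.conj_apply, mul_assoc] using
          M.mul_mem (M.mul_mem hn (hSM hs)) (M.inv_mem hn)
      have hcardT : Nat.card T = Nat.card (S : Subgroup G) :=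
        (Nat.card_congr (Subgroup.equivMapOfInjective _ _ (MulEquiv.injective _)).toEquiv).symm
      have hcardT' : Nat.card T' = Nat.card (S : Subgroup G) :=
        (Nat.card_congr (Subgroup.equivMapOfInjective _ _ (MulEquiv.injective _)).toEquiv).symm
      by_cases hDeq : D = T
      · -- the conjugate contains a Sylow subgroup of `M`
        have h1 : ∀ s ∈ (S : Subgroup G), (g⁻¹ * m) * s * (g⁻¹ * m)⁻¹ ∈ M := by
          intro s hs
          have h2 : m * s * m⁻¹ ∈ M.map (MulAut.conj g).toMonoidHom :=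
            hDg (hDeq ▸ ⟨s, hs, rfl⟩)
          simpa [mul_assoc] using mem_conj_map.1 h2
        have h3 := mem_of_conj_sylow_le S hN h1
        simpa [mul_assoc] using M.mul_mem hm (M.inv_mem h3)
      have hlt : D < T := lt_of_le_of_ne hDT hDeq
      have hlt' : D < T' := by
        refine lt_of_le_of_ne hDT' fun h => hDeq (Subgroup.eq_of_le_of_card_ge hDT ?_)
        rw [hcardT, h, hcardT']
      -- normalizer growth
      have hgrow : ∀ (U : Subgroup G), IsPGroup 2 U → D < U →
          D < Subgroup.normalizer (D : Set G) ⊓ U := by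
        intro U hU hlt
        haveI := hU.isNilpotent
        have h1 : D.subgroupOf U < ⊤ := by
          rw [lt_top_iff_ne_top, ne_eq, Subgroup.subgroupOf_eq_top]
          exact fun h => hlt.not_ge h
        obtain ⟨-, x, hx, hxD⟩ :=
          SetLike.lt_iff_le_and_exists.1 (Group.normalizerCondition_of_isNilpotent (D.subgroupOf U) h1)
        rw [← Subgroup.subgroupOf_normalizer_eq hlt.le, Subgroup.mem_subgroupOf] at hx
        exact SetLike.lt_iff_le_and_exists.2
          ⟨le_inf Subgroup.le_normalizer hlt.le, (x : G), Subgroup.mem_inf.2 ⟨hx, x.2⟩,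
            fun h => hxD (Subgroup.mem_subgroupOf.2 h)⟩
      obtain ⟨M', hM', hDM'⟩ := SylowInter.CharLocal.exists_maximal_twoLocal hD hD1
      obtain ⟨h, rfl⟩ := hconj M' hM'
      have hTp : IsPGroup 2 T := S.isPGroup'.map _
      have hT'p : IsPGroup 2 T' := S.isPGroup'.map _
      have hbig : ∀ U : Subgroup G, D < U → Nat.card G ≤ k + Nat.card U := fun U hU => by
        have : Nat.card D < Nat.card U := by
          by_contra hle
          exact hU.ne (Subgroup.eq_of_le_of_card_ge hU.le (not_lt.1 hle))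
        omega
      have hD1' : ∀ U : Subgroup G, D < U → U ≠ ⊥ := fun U hU h' => hD1 (le_bot_iff.1 (h' ▸ hU.le))
      have hhM : h ∈ M :=
        ih _ h (hbig _ (hgrow T hTp hlt)) (hTp.to_le inf_le_right) (hD1' _ (hgrow T hTp hlt))
          (inf_le_right.trans hTM) (inf_le_left.trans hDM')
      have hM'eq : M.map (MulAut.conj h).toMonoidHom ≤ M := by
        rintro _ ⟨x, hx, rfl⟩
        exact M.mul_mem (M.mul_mem hhM hx) (M.inv_mem hhM)
      exact ih _ g (hbig _ (hgrow T' hT'p hlt')) (hT'p.to_le inf_le_right) (hD1' _ (hgrow T' hT'p hlt'))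
        (inf_le_left.trans (hDM'.trans hM'eq)) (inf_le_right.trans hT'M)
  have heven : Even (Nat.card M) := by
    have h1 : 2 ∣ Nat.card (S : Subgroup G) := by
      obtain ⟨n, hn⟩ := S.isPGroup'.exists_card_eq
      rcases n.eq_zero_or_pos with rfl | hpos
      · exact absurd (Subgroup.eq_bot_of_card_eq _ (by simpa using hn)) hS
      · exact hn ▸ dvd_pow_self 2 hpos.ne'
    exact even_iff_two_dvd.2 (h1.trans (Subgroup.card_dvd_of_le hSM))
  refine (Involutions.StronglyEmbedded.isStronglyEmbedded_iff hMtop heven).2 fun t ht ht2 g hg => ?_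
  refine key (Nat.card G) (Subgroup.zpowers (g * t * g⁻¹)) g (by omega) ?_ ?_
    (Subgroup.zpowers_le.2 hg) (Subgroup.zpowers_le.2 ⟨t, ht, rfl⟩)
  · refine IsPGroup.of_card (n := 1) ?_
    rw [Nat.card_zpowers, conj_orderOf, ht2, pow_one]
  · rw [ne_eq, Subgroup.zpowers_eq_bot, conj_eq_one_iff]
    exact Involutions.Basic.invol_ne_one ht2

/-- A non-abelian simple group all of whose maximal 2-local subgroups are conjugate has a strongly
embedded subgroup. -/
theorem exists_isStronglyEmbedded [IsSimpleGroup G] (hG : ¬ IsMulCommutative G)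
    (h1 : ∀ M M' : Subgroup G, IsMaximalTwoLocal M → IsMaximalTwoLocal M' →
      ∃ g : G, M' = M.map (MulAut.conj g).toMonoidHom) :
    ∃ M : Subgroup G, IsMaximalTwoLocal M ∧ IsStronglyEmbedded M := by
  haveI : Fact (Nat.Prime 2) := ⟨Nat.prime_two⟩
  have hcomm : ¬ Group.IsSolvable G := fun h => by
    have := h
    exact hG ⟨⟨fun a b => IsSimpleGroup.comm_iff_isSolvable.2 h a b⟩⟩
  obtain ⟨S⟩ := (inferInstance : Nonempty (Sylow 2 G))
  have hS : (S : Subgroup G) ≠ ⊥ := fun h => by
    refine hcomm (OddOrder.FeitThompson.isSolvable_of_odd_card (G := G) ?_)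
    by_contra hodd
    have := S.dvd_card_of_dvd_card (even_iff_two_dvd.1 (Nat.not_odd_iff_even.1 hodd))
    rw [h, Subgroup.card_bot] at this
    omega
  obtain ⟨M, hM, hN⟩ := SylowInter.CharLocal.exists_maximal_twoLocal S.isPGroup' hS
  refine ⟨M, hM, isStronglyEmbedded_of_conjugate S M hS hM ?_ hN fun M' hM' => h1 M M' hM hM'⟩
  rintro rfl
  obtain ⟨T, hT, hT1, hTN⟩ := hM.1
  have hTn : T.Normal := Subgroup.normalizer_eq_top_iff.1 hTN.symm
  have hTtop : T = ⊤ := hTn.eq_bot_or_eq_top.resolve_left hT1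
  subst hTtop
  haveI := (hT.of_equiv Subgroup.topEquiv).isNilpotent
  exact hcomm inferInstance

universe u

open BenderConsumers23 BenderSuzuki in
/-- S3245 from the two parts of the Bender-Suzuki theorem. -/
theorem row3245 {G : Type u} [Group G] [Finite G] [IsSimpleGroup G] (hP : PropPartOne.{u})
    (hMain : PropMain.{u, u}) (hG : ¬ IsMulCommutative G)
    (h1 : ∀ M M' : Subgroup G, IsMaximalTwoLocal M → IsMaximalTwoLocal M' →
      ∃ g : G, M' = M.map (MulAut.conj g).toMonoidHom) :
    BenderConsumers23.Target G := by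
  obtain ⟨M, -, hM⟩ := exists_isStronglyEmbedded hG h1
  exact (simple_case hP hMain (na_of_not_comm hG) hM).1

end Cfsg.Agent.Lib.OneTwoLocal
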